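import Mathlib

/-!
# A dihedral group acting fixed-point-freely on a 2-group
-/

namespace Cfsg.Agent.FpfDihedral

universe u

theorem elementary {V : Type u} [CommGroup V] [Finite V] (hV : ∀ v : V, v * v = 1) (a z : MulAut V)
    (ha : ∀ x, a (a x) = x) (haz : ∀ x, a (z (a x)) = z.symm x) (hz : ∀ x, z (z x) = x → x = 1) :
    Nat.card (a.toMonoidHom.eqLocus (MonoidHom.id V)) ^ 2 = Nat.card V ∧
      ∀ x, a x = x → ∃ w, x = w⁻¹ * a w := by
  set C := a.toMonoidHom.eqLocus (MonoidHom.id V) with hC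
  have hmem : ∀ x, x ∈ C ↔ a x = x := fun x => Iff.rfl
  set C' := C.map z.toMonoidHom with hC'
  have hdisj : C ⊓ C' = ⊥ := by
    rw [eq_bot_iff]
    rintro x ⟨hx, y, hy, rfl⟩
    have h1 : a (z y) = z y := hx
    have h2 : a y = y := hy
    have h3 := haz y
    rw [h2, h1] at h3
    have h4 : z (z y) = y := by rw [h3, MulEquiv.apply_symm_apply]
    rw [Subgroup.mem_bot, hz y h4]
    exact map_one z
  have hcard : Nat.card C' = Nat.card C := Subgroup.card_map_of_injective z.injective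
  have hle : Nat.card C * Nat.card C ≤ Nat.card V := by
    have hinj : Function.Injective (fun p : C × C' => (p.1 : V) * p.2) := by
      rintro ⟨⟨c, hc⟩, ⟨d, hd⟩⟩ ⟨⟨c', hc'⟩, ⟨d', hd'⟩⟩ h
      have h' : c'⁻¹ * c = d' * d⁻¹ := by
        rw [eq_mul_inv_iff_mul_eq, mul_assoc, inv_mul_eq_iff_eq_mul]
        exact h
      have hm : c'⁻¹ * c ∈ C ⊓ C' :=
        Subgroup.mem_inf.2 ⟨mul_mem (inv_mem hc') hc, h' ▸ mul_mem hd' (inv_mem hd)⟩
      rw [hdisj, Subgroup.mem_bot] at hm
      have e1 := inv_mul_eq_one.1 hm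
      rw [hm] at h'
      have e2 := mul_inv_eq_one.1 h'.symm
      subst e1; subst e2; rfl
    have := Nat.card_le_card_of_injective _ hinj
    rwa [Nat.card_prod, hcard] at this
  let δ : V →* V := (MonoidHom.id V)⁻¹ * a.toMonoidHom
  have hδ : ∀ w, δ w = w⁻¹ * a w := fun w => rfl
  have hker : δ.ker = C := by
    ext x
    rw [MonoidHom.mem_ker, hδ, inv_mul_eq_one, hmem]
    exact eq_comm
  have hrange : δ.range ≤ C := by
    rintro _ ⟨w, rfl⟩
    rw [hmem, hδ, map_mul, map_inv, ha, inv_eq_of_mul_eq_one_right (hV (a w)),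
      inv_eq_of_mul_eq_one_right (hV w), mul_comm]
  have heq := δ.ker.card_mul_index
  rw [Subgroup.index_ker, hker] at heq
  have hrle := Subgroup.card_le_of_le hrange
  have hr : Nat.card δ.range = Nat.card C := by nlinarith [Nat.card_pos (α := C)]
  refine ⟨by rw [← heq, hr, sq], fun x hx => ?_⟩
  have := Subgroup.eq_of_le_of_card_ge hrange hr.ge
  obtain ⟨w, hw⟩ := this.ge ((hmem x).2 hx)
  exact ⟨w, hw.symm⟩

theorem general : ∀ (n : ℕ) (O : Type u) [Group O] [Finite O], Nat.card O = n → IsPGroup 2 O →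
    ∀ (a z : MulAut O), (∀ x, a (a x) = x) → (∀ x, a (z (a x)) = z.symm x) →
      (∀ x, z (z x) = x → x = 1) →
      Nat.card (a.toMonoidHom.eqLocus (MonoidHom.id O)) ^ 2 = n ∧
        ∀ x, a x = x⁻¹ → ∃ w, x = w⁻¹ * a w := by
  intro n
  induction n using Nat.strong_induction_on with
  | _ n ih =>
  intro O _ _ hn hO a z ha haz hz
  rcases subsingleton_or_nontrivial O with hs | hnt
  · refine ⟨?_, fun x _ => ⟨1, Subsingleton.elim _ _⟩⟩
    rw [← hn, Nat.card_eq_one_iff_unique.2 ⟨hs, ⟨1⟩⟩,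
      Nat.card_eq_one_iff_unique.2 ⟨inferInstance, ⟨1⟩⟩, one_pow]
  haveI : Fact (Nat.Prime 2) := ⟨Nat.prime_two⟩
  let V : Subgroup O :=
    { carrier := {x | x ∈ Subgroup.center O ∧ x * x = 1}
      one_mem' := ⟨one_mem _, one_mul 1⟩
      mul_mem' := fun {x y} hx hy => ⟨mul_mem hx.1 hy.1, by
        rw [mul_assoc, ← mul_assoc y, (Subgroup.mem_center_iff.1 hx.1 y), mul_assoc x, hy.2, mul_one, hx.2]⟩
      inv_mem' := fun {x} hx => ⟨inv_mem hx.1, by rw [← mul_inv_rev, hx.2, inv_one]⟩ }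
  have hVc : V ≤ Subgroup.center O := fun x hx => hx.1
  haveI : V.Normal := ⟨fun x hx g => by
    rw [Subgroup.mem_center_iff.1 hx.1 g, mul_inv_cancel_right]; exact hx⟩
  have hinvar : ∀ (f : MulAut O), V.map f.toMonoidHom = V := by
    have h1 : ∀ (f : MulAut O) x, x ∈ V → f x ∈ V := fun f x hx =>
      ⟨Subgroup.mem_center_iff.2 fun g => by
          obtain ⟨g, rfl⟩ := f.surjective g
          rw [← map_mul, ← map_mul, Subgroup.mem_center_iff.1 hx.1 g],
        by rw [← map_mul, hx.2, map_one]⟩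
    intro f
    refine le_antisymm ?_ fun x hx => ⟨f.symm x, h1 f.symm x hx, f.apply_symm_apply x⟩
    rintro _ ⟨x, hx, rfl⟩
    exact h1 f x hx
  letI : CommGroup V := { (inferInstance : Group V) with
    mul_comm := fun x y => Subtype.ext ((Subgroup.mem_center_iff.1 x.2.1 y).symm) }
  have hV2 : ∀ v : V, v * v = 1 := fun v => Subtype.ext v.2.2
  let res : ∀ f : MulAut O, MulAut V := fun f =>
    (f.subgroupMap V).trans (MulEquiv.subgroupCongr (hinvar f))
  have hres : ∀ f (v : V), ((res f v : V) : O) = f v := fun f v => rfl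
  obtain ⟨hcV, hsV⟩ := elementary hV2 (res a) (res z) (fun v => Subtype.ext (ha v.1))
    (fun v => Subtype.ext (by
      show a (z (a v.1)) = _
      rw [haz]
      apply z.injective
      rw [MulEquiv.apply_symm_apply, ← hres z, MulEquiv.apply_symm_apply]))
    (fun v hv => Subtype.ext (hz v.1 (congrArg Subtype.val hv)))
  -- the quotient
  let π := QuotientGroup.mk' V
  let qa : ∀ f : MulAut O, MulAut (O ⧸ V) := fun f => QuotientGroup.congr V V f (hinvar f)
  have hqa : ∀ f (x : O), qa f (π x) = π (f x) := fun f x => rfl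
  have hsymm : ∀ f (x : O), (qa f).symm (π x) = π (f.symm x) := fun f x => by
    apply (qa f).injective
    rw [MulEquiv.apply_symm_apply, hqa, MulEquiv.apply_symm_apply]
  have hne : V ≠ ⊥ := by
    intro hb
    haveI : Nontrivial (Subgroup.center O) := hO.center_nontrivial
    have hd : 2 ∣ Nat.card (Subgroup.center O) :=
      ((hO.to_subgroup (Subgroup.center O)).card_eq_or_dvd).resolve_left
        (Finite.one_lt_card (α := Subgroup.center O)).ne'
    obtain ⟨c, hc⟩ := exists_prime_orderOf_dvd_card' 2 hd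
    have hc2 := pow_orderOf_eq_one c
    rw [hc, pow_two] at hc2
    have : (c : O) ∈ V := ⟨c.2, congrArg Subtype.val hc2⟩
    rw [hb, Subgroup.mem_bot] at this
    rw [show c = 1 from Subtype.ext this, orderOf_one] at hc
    omega
  have hlt : Nat.card (O ⧸ V) < n := by
    rw [← hn, Subgroup.card_eq_card_quotient_mul_card_subgroup V]
    exact lt_mul_of_one_lt_right Nat.card_pos ((Subgroup.one_lt_card_iff_ne_bot V).2 hne)
  have hqz : ∀ x, qa z (qa z x) = x → x = 1 := by
    intro x hx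
    obtain ⟨x, rfl⟩ := QuotientGroup.mk'_surjective V x
    have h1 : z (z x) * x⁻¹ ∈ V := by
      rw [← QuotientGroup.eq_one_iff]
      show π (z (z x) * x⁻¹) = 1
      rw [map_mul, map_inv, ← hqa, ← hqa, mul_inv_eq_one]
      exact hx
    let η : V → V := fun v => res z (res z v) * v⁻¹
    have hη : Function.Injective η := fun v w h => by
      have : res z (res z (v * w⁻¹)) = v * w⁻¹ := by
        rw [map_mul, map_mul, map_inv, map_inv]
        calc res z (res z v) * (res z (res z w))⁻¹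
            = η v * v * (η w * w)⁻¹ := by simp only [η, inv_mul_cancel_right]
          _ = v * w⁻¹ := by rw [h, mul_inv, mul_mul_mul_comm, mul_inv_cancel, one_mul]
      have h2 := hz _ (congrArg Subtype.val this)
      exact mul_inv_eq_one.1 (Subtype.ext h2)
    obtain ⟨w, hw⟩ := (Finite.injective_iff_surjective.1 hη) ⟨_, h1⟩
    have hw' : z (z (w : O)) * (w : O)⁻¹ = z (z x) * x⁻¹ := congrArg Subtype.val hw
    have h3 : z (z (x * (w : O)⁻¹)) = x * (w : O)⁻¹ := by
      rw [map_mul, map_mul, map_inv, map_inv]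
      have e1 : z (z (w : O)) = z (z x) * x⁻¹ * (w : O) := by rw [← hw', inv_mul_cancel_right]
      set u : O := z (z x) * x⁻¹ with hu
      have hzx : z (z x) = u * x := by rw [hu, inv_mul_cancel_right]
      have huc := Subgroup.mem_center_iff.1 h1.1
      have hwc := Subgroup.mem_center_iff.1 (inv_mem w.2.1 : (w : O)⁻¹ ∈ Subgroup.center O)
      rw [e1, hzx, mul_inv_rev, mul_assoc, ← mul_assoc x, ← mul_assoc u]
      rw [← huc (x * (w : O)⁻¹), mul_inv_cancel_right]
    have h4 := mul_inv_eq_one.1 (hz _ h3)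
    exact (QuotientGroup.eq_one_iff x).2 (h4 ▸ w.2)
  obtain ⟨hcQ, hsQ⟩ := ih _ hlt (O ⧸ V) rfl (hO.to_quotient V) (qa a) (qa z)
    (fun x => by obtain ⟨x, rfl⟩ := QuotientGroup.mk'_surjective V x; rw [hqa, hqa, ha])
    (fun x => by obtain ⟨x, rfl⟩ := QuotientGroup.mk'_surjective V x; rw [hqa, hqa, hqa, haz, hsymm])
    hqz
  set C := a.toMonoidHom.eqLocus (MonoidHom.id O)
  set CV := (res a).toMonoidHom.eqLocus (MonoidHom.id V)
  set CQ := (qa a).toMonoidHom.eqLocus (MonoidHom.id (O ⧸ V))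
  let ψ : C →* CQ := (π.comp C.subtype).codRestrict CQ fun c => by
    show qa a (π c) = π c
    rw [hqa, show a (c : O) = c from c.2]
  have hsurj : Function.Surjective ψ := by
    rintro ⟨q, hq⟩
    obtain ⟨x, rfl⟩ := QuotientGroup.mk'_surjective V q
    have hv : x⁻¹ * a x ∈ V := QuotientGroup.eq.1 (show (x : O ⧸ V) = (a x : O ⧸ V) from (hq.symm : π x = π (a x)))
    have hfix : res a ⟨_, hv⟩ = ⟨_, hv⟩ := by
      have h5 : res a ⟨_, hv⟩ = ⟨_, hv⟩⁻¹ := Subtype.ext (by
        show a (x⁻¹ * a x) = (x⁻¹ * a x)⁻¹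
        rw [map_mul, map_inv, ha]; group)
      rw [h5, inv_eq_of_mul_eq_one_right (hV2 _)]
    obtain ⟨w, hw⟩ := hsV _ hfix
    have hw' : x⁻¹ * a x = (w : O)⁻¹ * a (w : O) := congrArg Subtype.val hw
    refine ⟨⟨x * (w : O)⁻¹, ?_⟩, Subtype.ext ?_⟩
    · show a (x * (w : O)⁻¹) = x * (w : O)⁻¹
      have hcw : a (w : O) * (w : O) = (w : O) * a (w : O) := (Subgroup.mem_center_iff.1 w.2.1 _)
      rw [map_mul, map_inv, show a x = x * (x⁻¹ * a x) by group, hw']
      group
    · show π (x * (w : O)⁻¹) = π x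
      rw [map_mul, (QuotientGroup.eq_one_iff (N := V) ((w : O)⁻¹)).2 (inv_mem w.2) |> fun h =>
        show π (w : O)⁻¹ = 1 from h, mul_one]
  have hcardC : Nat.card C = Nat.card CV * Nat.card CQ := by
    rw [← ψ.ker.card_mul_index, Subgroup.index_ker, MonoidHom.range_eq_top.2 hsurj, Subgroup.card_top]
    congr 1
    refine Nat.card_congr
      { toFun := fun c => ⟨⟨c.1.1, (QuotientGroup.eq_one_iff _).1 (congrArg Subtype.val c.2)⟩,
          Subtype.ext c.1.2⟩
        invFun := fun v => ⟨⟨v.1.1, congrArg Subtype.val v.2⟩,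
          Subtype.ext ((QuotientGroup.eq_one_iff _).2 v.1.2)⟩
        left_inv := fun c => rfl
        right_inv := fun v => rfl }
  refine ⟨?_, fun x hx => ?_⟩
  · rw [hcardC, mul_pow, hcV, hcQ, mul_comm, ← Subgroup.card_eq_card_quotient_mul_card_subgroup, hn]
  · obtain ⟨q, hq⟩ := hsQ (π x) (by rw [hqa, hx, map_inv])
    obtain ⟨w, rfl⟩ := QuotientGroup.mk'_surjective V q
    have hv : w * x * (a w)⁻¹ ∈ V := by
      rw [← QuotientGroup.eq_one_iff]
      show π (w * x * (a w)⁻¹) = 1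
      rw [map_mul, map_mul, map_inv, hq, hqa, mul_inv_cancel_left, mul_inv_cancel]
    set v : V := ⟨_, hv⟩ with hvdef
    have hfix : res a v = v := by
      have h5 : res a v = v⁻¹ := Subtype.ext (by
        show a (w * x * (a w)⁻¹) = (w * x * (a w)⁻¹)⁻¹
        rw [map_mul, map_mul, map_inv, ha, hx]; group)
      rw [h5, inv_eq_of_mul_eq_one_right (hV2 _)]
    obtain ⟨t, ht⟩ := hsV v hfix
    have ht' : w * x * (a w)⁻¹ = (t : O)⁻¹ * a (t : O) := congrArg Subtype.val ht
    refine ⟨(t : O) * w, ?_⟩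
    rw [map_mul]
    have : x = w⁻¹ * ((t : O)⁻¹ * a (t : O)) * a w := by rw [← ht']; group
    rw [this]; group

end Cfsg.Agent.FpfDihedral
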